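import Groth.Prelude.Def_W4c3biextchowCx
import Mathlib.Algebra.Homology.ShortComplex.ModuleCat
import Mathlib.Algebra.Homology.ShortComplex.HomologicalComplex
import Mathlib.Algebra.Category.ModuleCat.EpiMono

/-!
# The functor between the groupoids of two complexes and the map on homology
-/

set_option autoImplicit false
set_option linter.unusedSectionVars false

universe u v

open CategoryTheory W4c3biextchow

namespace GrothLib.CxGrpd25

variable {R : Type u} [Ring R] {C D : ChainComplex (ModuleCat.{v} R) ℕ}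

/-- cycles in degree `n`, mapping to `n'`. -/
theorem exists_cycle (K : ChainComplex (ModuleCat.{v} R) ℕ) (n j : ℕ)
    (hj : (ComplexShape.down ℕ).next n = j) {x : K.X n} (hx : K.d n j x = 0) :
    ∃ z : K.cycles n, K.iCycles n z = x :=
  (ShortComplex.moduleCat_exact_iff _).1
    (ShortComplex.exact_of_f_is_kernel (ShortComplex.mk (K.iCycles n) (K.d n j) (K.iCycles_d n j))
      (K.cyclesIsKernel n j hj)) x hx

theorem π_eq_zero_iff (K : ChainComplex (ModuleCat.{v} R) ℕ) (n : ℕ) (z : K.cycles n) :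
    K.homologyπ n z = 0 ↔ ∃ w : K.X (n + 1), K.d (n + 1) n w = K.iCycles n z := by
  constructor
  · intro h
    obtain ⟨w, hw⟩ := (ShortComplex.moduleCat_exact_iff _).1
      (ShortComplex.exact_of_g_is_cokernel (ShortComplex.mk (K.toCycles (n + 1) n) (K.homologyπ n)
        (K.toCycles_comp_homologyπ _ _)) (K.homologyIsCokernel (n + 1) n (by simp))) z h
    exact ⟨w, (ConcreteCategory.congr_hom (K.toCycles_i (n + 1) n) w).symm.trans
      (congrArg (K.iCycles n) hw)⟩
  · rintro ⟨w, hw⟩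
    have : z = K.toCycles (n + 1) n w := (ModuleCat.mono_iff_injective (K.iCycles n)).1 inferInstance
      (hw.symm.trans (ConcreteCategory.congr_hom (K.toCycles_i (n + 1) n) w).symm)
    rw [this]
    exact ConcreteCategory.congr_hom (K.toCycles_comp_homologyπ (n + 1) n) w

theorem iCycles_d_apply (K : ChainComplex (ModuleCat.{v} R) ℕ) (n j : ℕ) (z : K.cycles n) :
    K.d n j (K.iCycles n z) = 0 :=
  ConcreteCategory.congr_hom (K.iCycles_d n j) z

theorem cyclesMap_i_apply (f : C ⟶ D) (n : ℕ) (z : C.cycles n) :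
    D.iCycles n (HomologicalComplex.cyclesMap f n z) = f.f n (C.iCycles n z) :=
  ConcreteCategory.congr_hom (HomologicalComplex.cyclesMap_i f n) z

theorem π_map_apply (f : C ⟶ D) (n : ℕ) (z : C.cycles n) :
    HomologicalComplex.homologyMap f n (C.homologyπ n z) =
      D.homologyπ n (HomologicalComplex.cyclesMap f n z) :=
  ConcreteCategory.congr_hom (HomologicalComplex.homologyπ_naturality f n) z

theorem mono_iff (f : C ⟶ D) (n j : ℕ) (hj : (ComplexShape.down ℕ).next n = j) :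
    Mono (HomologicalComplex.homologyMap f n) ↔ ∀ x : C.X n, C.d n j x = 0 →
      (∃ w, D.d (n + 1) n w = f.f n x) → ∃ w, C.d (n + 1) n w = x := by
  rw [ModuleCat.mono_iff_injective]
  constructor
  · intro h x hx hw
    obtain ⟨z, rfl⟩ := exists_cycle C n j hj hx
    obtain ⟨w, hw⟩ := hw
    refine (π_eq_zero_iff C n z).1 (h ?_)
    rw [map_zero, π_map_apply, π_eq_zero_iff]
    exact ⟨w, hw.trans (cyclesMap_i_apply f n z).symm⟩
  · intro h
    rw [injective_iff_map_eq_zero]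
    intro a ha
    obtain ⟨z, rfl⟩ := (ModuleCat.epi_iff_surjective (C.homologyπ n)).1 inferInstance a
    rw [π_map_apply, π_eq_zero_iff] at ha
    obtain ⟨w, hw⟩ := ha
    rw [π_eq_zero_iff]
    exact h _ (iCycles_d_apply C n j z) ⟨w, hw.trans (cyclesMap_i_apply f n z)⟩

theorem epi_iff (f : C ⟶ D) (n j : ℕ) (hj : (ComplexShape.down ℕ).next n = j) :
    Epi (HomologicalComplex.homologyMap f n) ↔ ∀ y : D.X n, D.d n j y = 0 →
      ∃ x, C.d n j x = 0 ∧ ∃ w, D.d (n + 1) n w = y - f.f n x := by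
  rw [ModuleCat.epi_iff_surjective]
  constructor
  · intro h y hy
    obtain ⟨z, rfl⟩ := exists_cycle D n j hj hy
    obtain ⟨a, ha⟩ := h (D.homologyπ n z)
    obtain ⟨z', rfl⟩ := (ModuleCat.epi_iff_surjective (C.homologyπ n)).1 inferInstance a
    rw [π_map_apply] at ha
    refine ⟨_, iCycles_d_apply C n j z', ?_⟩
    rw [← cyclesMap_i_apply, ← map_sub]
    exact (π_eq_zero_iff D n _).1 (by rw [map_sub, ha, sub_self])
  · intro h b
    obtain ⟨z, rfl⟩ := (ModuleCat.epi_iff_surjective (D.homologyπ n)).1 inferInstance b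
    obtain ⟨x, hx, w, hw⟩ := h _ (iCycles_d_apply D n j z)
    obtain ⟨z', rfl⟩ := exists_cycle C n j hj hx
    refine ⟨C.homologyπ n z', ?_⟩
    rw [π_map_apply, eq_comm, ← sub_eq_zero, ← map_sub, π_eq_zero_iff]
    exact ⟨w, by rw [map_sub, cyclesMap_i_apply]; exact hw⟩

theorem next_one : (ComplexShape.down ℕ).next 1 = 0 := by simp

theorem next_zero : (ComplexShape.down ℕ).next 0 = 0 := by simp

theorem d_zero_zero (K : ChainComplex (ModuleCat.{v} R) ℕ) (x : K.X 0) : K.d 0 0 x = 0 := by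
  rw [K.shape 0 0 (by simp)]; rfl

theorem mk_eq_mk_iff (K : ChainComplex (ModuleCat.{v} R) ℕ) (x y : K.X 1) :
    (Submodule.Quotient.mk x : Q1 K) = Submodule.Quotient.mk y ↔ ∃ w, K.d 2 1 w = x - y :=
  Submodule.Quotient.eq _

theorem faithful_iff (f : C ⟶ D) :
    (cxFunctor f).Faithful ↔ Mono (HomologicalComplex.homologyMap f 1) := by
  rw [mono_iff f 1 0 next_one]
  constructor
  · intro h x hx hw
    let a : Obj C := ⟨0⟩
    let φ : a ⟶ a := (⟨Submodule.Quotient.mk x, by rw [delta_mk]; simp [a]; exact hx⟩ : Hom C a a)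
    have hφ : (cxFunctor f).map φ = (cxFunctor f).map (𝟙 a) := by
      apply Hom.ext
      show q1Map f (Submodule.Quotient.mk x) = q1Map f 0
      rw [q1Map_mk, map_zero, Submodule.Quotient.mk_eq_zero]
      exact hw
    have h' := congrArg Hom.cl ((cxFunctor f).map_injective hφ)
    obtain ⟨w, hw'⟩ := (Submodule.Quotient.mk_eq_zero _).1
      (show (Submodule.Quotient.mk x : Q1 C) = 0 from h')
    exact ⟨w, hw'⟩
  · intro h
    constructor
    rintro a b ⟨φ, hφ⟩ ⟨ψ, hψ⟩ he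
    obtain ⟨x, rfl⟩ := Submodule.Quotient.mk_surjective _ φ
    obtain ⟨y, rfl⟩ := Submodule.Quotient.mk_surjective _ ψ
    have he' := congrArg Hom.cl he
    change q1Map f (Submodule.Quotient.mk x) = q1Map f (Submodule.Quotient.mk y) at he'
    rw [q1Map_mk, q1Map_mk, mk_eq_mk_iff] at he'
    rw [delta_mk] at hφ hψ
    apply Hom.ext
    refine (mk_eq_mk_iff C x y).2 (h (x - y) ?_ ?_)
    · rw [map_sub]; exact sub_eq_zero.2 (hφ.trans hψ.symm)
    · obtain ⟨w, hw⟩ := he'
      exact ⟨w, by rw [map_sub]; exact hw⟩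

theorem full_iff (f : C ⟶ D) : (cxFunctor f).Full ↔
    Epi (HomologicalComplex.homologyMap f 1) ∧ Mono (HomologicalComplex.homologyMap f 0) := by
  rw [epi_iff f 1 0 next_one, mono_iff f 0 0 next_zero]
  constructor
  · intro h
    constructor
    · intro y hy
      let a : Obj C := ⟨0⟩
      let ψ : (cxFunctor f).obj a ⟶ (cxFunctor f).obj a :=
        (⟨Submodule.Quotient.mk y, by rw [delta_mk, sub_self]; exact hy⟩ : Hom D _ _)
      obtain ⟨⟨φ, hφ⟩, he⟩ := (cxFunctor f).map_surjective ψ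
      obtain ⟨x, rfl⟩ := Submodule.Quotient.mk_surjective _ φ
      have he' := congrArg Hom.cl he
      change q1Map f (Submodule.Quotient.mk x) = Submodule.Quotient.mk y at he'
      rw [q1Map_mk, eq_comm, mk_eq_mk_iff] at he'
      rw [delta_mk, sub_self] at hφ
      exact ⟨x, hφ, he'⟩
    · intro x _ hw
      obtain ⟨w, hw⟩ := hw
      let a : Obj C := ⟨0⟩
      let b : Obj C := ⟨x⟩
      let ψ : (cxFunctor f).obj a ⟶ (cxFunctor f).obj b :=
        (⟨Submodule.Quotient.mk w, by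
          rw [delta_mk, cxFunctor_obj_pt, cxFunctor_obj_pt]
          show _ = f.f 0 x - f.f 0 0
          rw [map_zero, sub_zero]; exact hw⟩ : Hom D _ _)
      obtain ⟨⟨φ, hφ⟩, -⟩ := (cxFunctor f).map_surjective ψ
      obtain ⟨x', rfl⟩ := Submodule.Quotient.mk_surjective _ φ
      rw [delta_mk] at hφ
      exact ⟨x', by simpa [a, b] using hφ⟩
  · rintro ⟨h₁, h₀⟩
    constructor
    rintro a b ⟨ψ, hψ⟩
    obtain ⟨y, rfl⟩ := Submodule.Quotient.mk_surjective _ ψ
    rw [delta_mk, cxFunctor_obj_pt, cxFunctor_obj_pt] at hψ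
    obtain ⟨x₀, hx₀⟩ := h₀ (b.pt - a.pt) (d_zero_zero C _) ⟨y, by rw [map_sub]; exact hψ⟩
    have hn : D.d 1 0 (f.f 1 x₀) = f.f 0 (C.d 1 0 x₀) :=
      ConcreteCategory.congr_hom (f.comm 1 0) x₀
    obtain ⟨x₁, hx₁, w, hw⟩ := h₁ (y - f.f 1 x₀) (by
      rw [map_sub, hn, hx₀, map_sub]; exact sub_eq_zero.2 hψ)
    refine ⟨(⟨Submodule.Quotient.mk (x₀ + x₁), ?_⟩ : Hom C a b), Hom.ext ?_⟩
    · rw [delta_mk]
      show C.d 1 0 (x₀ + x₁) = _
      rw [map_add, hx₁, add_zero, hx₀]
    · show q1Map f (Submodule.Quotient.mk (x₀ + x₁)) = Submodule.Quotient.mk y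
      rw [q1Map_mk, eq_comm, mk_eq_mk_iff]
      refine ⟨w, hw.trans ?_⟩
      show _ = y - f.f 1 (x₀ + x₁)
      rw [map_add]; abel

theorem essSurj_iff (f : C ⟶ D) :
    (cxFunctor f).EssSurj ↔ Epi (HomologicalComplex.homologyMap f 0) := by
  rw [epi_iff f 0 0 next_zero]
  constructor
  · intro h y _
    obtain ⟨⟨x⟩, ⟨e⟩⟩ := h.mem_essImage (⟨y⟩ : Obj D)
    obtain ⟨w, hw⟩ := Submodule.Quotient.mk_surjective _ (e.hom : Hom D _ _).cl
    have he := (e.hom : Hom D _ _).delta_cl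
    rw [← hw, delta_mk] at he
    exact ⟨x, d_zero_zero C x, w, he⟩
  · intro h
    constructor
    rintro ⟨y⟩
    obtain ⟨x, -, w, hw⟩ := h y (d_zero_zero D y)
    refine ⟨⟨x⟩, ⟨⟨(⟨Submodule.Quotient.mk w, by rw [delta_mk]; exact hw⟩ : Hom D _ _),
      (⟨-Submodule.Quotient.mk w, by rw [map_neg, delta_mk]; exact (congrArg Neg.neg hw).trans (neg_sub _ _)⟩ : Hom D _ _),
      Hom.ext (add_neg_cancel _), Hom.ext (neg_add_cancel _)⟩⟩⟩

end GrothLib.CxGrpd25
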